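import Mathlib

/-!
# Arithmetic for the semilinear case
-/

set_option autoImplicit false

namespace Cfsg.Agent.H140.KGV

open Finset

universe u

/-- Multiplication by `u` permutes the residues modulo `r`. -/
theorem image_mul_mod {r u : ℕ} (hr : 0 < r) (hu : u.Coprime r) :
    (range r).image (fun m => (u * m) % r) = range r := by
  apply Finset.eq_of_subset_of_card_le
  · intro x hx
    obtain ⟨m, -, rfl⟩ := Finset.mem_image.1 hx
    exact Finset.mem_range.2 (Nat.mod_lt _ hr)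
  · rw [Finset.card_image_of_injOn]
    intro a ha b hb hab
    have h1 : u * a ≡ u * b [MOD r] := hab
    have h2 : a ≡ b [MOD r] := Nat.ModEq.cancel_left_of_coprime (by
      rw [Nat.gcd_comm]; exact hu) h1
    exact Nat.ModEq.eq_of_lt_of_lt h2 (by simpa using ha) (by simpa using hb)

theorem sum_pow_mul {R : Type*} [CommSemiring R] {r u : ℕ} (hr : 0 < r) (hu : u.Coprime r) (g : R)
    (hg : g ^ r = 1) : ∑ m ∈ range r, g ^ (u * m) = ∑ m ∈ range r, g ^ m := by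
  have h1 : ∀ k, g ^ k = g ^ (k % r) := fun k => by
    conv_lhs => rw [← Nat.mod_add_div k r, pow_add, pow_mul, hg, one_pow, mul_one]
  conv_rhs => rw [← image_mul_mod hr hu]
  rw [Finset.sum_image]
  · exact Finset.sum_congr rfl fun m _ => h1 _
  · intro a ha b hb hab
    have h1 : u * a ≡ u * b [MOD r] := hab
    have h2 : a ≡ b [MOD r] := Nat.ModEq.cancel_left_of_coprime (by
      rw [Nat.gcd_comm]; exact hu) h1
    exact Nat.ModEq.eq_of_lt_of_lt h2 (by simpa using ha) (by simpa using hb)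

section

variable {q s r v : ℕ}

theorem geom_dvd (hq : 2 ≤ q) (hr : r ∣ s) (hr0 : 0 < r) (hs : 0 < s) :
    (q ^ (s / r) - 1) * ∑ m ∈ range r, (q ^ (s / r)) ^ m = q ^ s - 1 ∧ 0 < q ^ (s / r) - 1 := by
  have hd : 0 < s / r := Nat.div_pos (Nat.le_of_dvd hs hr) hr0
  have h2 : 2 ≤ q ^ (s / r) := hq.trans (Nat.le_self_pow hd.ne' q)
  constructor
  · rw [Nat.geomSum_eq h2, Nat.mul_div_cancel' (Nat.sub_one_dvd_pow_sub_one _ _), ← pow_mul,
      Nat.div_mul_cancel hr]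
  · omega

theorem geom_eq (hq : 2 ≤ q) (hr : r ∣ s) (hr0 : 0 < r) (hs : 0 < s) :
    (q ^ s - 1) / (q ^ (s / r) - 1) = ∑ m ∈ range r, (q ^ (s / r)) ^ m := by
  obtain ⟨h1, h2⟩ := geom_dvd hq hr hr0 hs
  rw [← h1, Nat.mul_div_cancel_left _ h2]

theorem q_pow_s (hq : 2 ≤ q) : (q : ZMod (q ^ s - 1)) ^ s = 1 := by
  have h1 : ((q ^ s : ℕ) : ZMod (q ^ s - 1)) = ((q ^ s - 1 + 1 : ℕ) : ZMod (q ^ s - 1)) := by
    rw [Nat.sub_add_cancel (Nat.one_le_pow _ _ (by omega))]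
  push_cast at h1
  rw [h1, ZMod.natCast_self, zero_add]

/-- (A2) -/
theorem pow_geom {G : Type*} [Group G] (hq : 2 ≤ q) (hs : 0 < s) (hr : r ∣ s) (hr0 : 0 < r)
    (hu : v.Coprime r) {c : G} (hc : c ^ (q ^ s - 1) = 1) :
    c ^ (∑ m ∈ range r, q ^ (s / r * v * m)) = c ^ ((q ^ s - 1) / (q ^ (s / r) - 1)) := by
  rw [geom_eq hq hr hr0 hs]
  have h1 : ((∑ m ∈ range r, q ^ (s / r * v * m) : ℕ) : ZMod (q ^ s - 1)) =
      ((∑ m ∈ range r, (q ^ (s / r)) ^ m : ℕ) : ZMod (q ^ s - 1)) := by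
    push_cast
    rw [← sum_pow_mul hr0 hu ((q : ZMod (q ^ s - 1)) ^ (s / r)) (by
      rw [← pow_mul, Nat.div_mul_cancel hr, q_pow_s hq])]
    refine Finset.sum_congr rfl fun m _ => ?_
    rw [← pow_mul, mul_assoc]
  have h2 := (ZMod.natCast_eq_natCast_iff _ _ _).1 h1
  exact pow_eq_pow_iff_modEq.2 (h2.of_dvd (orderOf_dvd_of_pow_eq_one hc))

/-- The fixed points of multiplication by `q ^ (s / r * v)`. -/
theorem fixed_iff (hq : 2 ≤ q) (hs : 0 < s) (hr : r ∣ s) (hr0 : 0 < r)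
    (hu : v.Coprime r) (j : ZMod (q ^ s - 1)) :
    (q : ZMod (q ^ s - 1)) ^ (s / r * v) * j = j ↔ (q : ZMod (q ^ s - 1)) ^ (s / r) * j = j := by
  have hgr : ((q : ZMod (q ^ s - 1)) ^ (s / r)) ^ r = 1 := by
    rw [← pow_mul, Nat.div_mul_cancel hr, q_pow_s hq]
  rw [pow_mul]
  constructor
  · intro h
    have h1 : Function.IsPeriodicPt (fun x => (q : ZMod (q ^ s - 1)) ^ (s / r) * x) v j := by
      show (fun x => (q : ZMod (q ^ s - 1)) ^ (s / r) * x)^[v] j = j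
      rw [mul_left_iterate]
      exact h
    have h2 : Function.IsPeriodicPt (fun x => (q : ZMod (q ^ s - 1)) ^ (s / r) * x) r j := by
      show (fun x => (q : ZMod (q ^ s - 1)) ^ (s / r) * x)^[r] j = j
      rw [mul_left_iterate]
      show ((q : ZMod (q ^ s - 1)) ^ (s / r)) ^ r * j = j
      rw [hgr, one_mul]
    have h3 := h1.gcd h2
    rw [hu] at h3
    exact h3
  · intro h
    have h1 : Function.IsPeriodicPt (fun x => (q : ZMod (q ^ s - 1)) ^ (s / r) * x) 1 j := h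
    have h2 := h1.const_mul v
    rw [mul_one] at h2
    have h3 : (fun x => (q : ZMod (q ^ s - 1)) ^ (s / r) * x)^[v] j = j := h2
    rw [mul_left_iterate] at h3
    exact h3

/-- (A1) -/
theorem fixed_sum (hq : 2 ≤ q) (hs : 0 < s) (hr : r ∣ s) (hr0 : 0 < r)
    (hu : v.Coprime r) [NeZero (q ^ s - 1)] (G : ZMod (q ^ s - 1) → ℂ) :
    ∑ j : ZMod (q ^ s - 1), (if (q : ZMod (q ^ s - 1)) ^ (s / r * v) * j = j then G j else 0) =
      ∑ j ∈ range (q ^ (s / r) - 1),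
        G (((q ^ s - 1) / (q ^ (s / r) - 1) * j : ℕ) : ZMod (q ^ s - 1)) := by
  obtain ⟨h1, h2⟩ := geom_dvd hq hr hr0 hs
  have hn : 0 < q ^ s - 1 := Nat.pos_of_ne_zero (NeZero.ne _)
  set e := (q ^ s - 1) / (q ^ (s / r) - 1) with he
  have hed : e * (q ^ (s / r) - 1) = q ^ s - 1 :=
    Nat.div_mul_cancel (Dvd.intro _ h1)
  have he0 : 0 < e := Nat.pos_of_mul_pos_right (by rw [hed]; exact hn) 
  rw [← Finset.sum_filter]
  symm
  refine Finset.sum_nbij (fun j : ℕ => ((e * j : ℕ) : ZMod (q ^ s - 1))) ?_ ?_ ?_ ?_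
  · intro j hj
    rw [Finset.mem_filter]
    refine ⟨Finset.mem_univ _, ?_⟩
    rw [fixed_iff hq hs hr hr0 hu]
    have h3 : ((q ^ (s / r) - 1 : ℕ) : ZMod (q ^ s - 1)) * ((e * j : ℕ) : ZMod (q ^ s - 1)) = 0 := by
      rw [← Nat.cast_mul, ← mul_assoc, mul_comm (q ^ (s / r) - 1), hed, Nat.cast_mul,
        ZMod.natCast_self, zero_mul]
    have h4 : ((q ^ (s / r) - 1 : ℕ) : ZMod (q ^ s - 1)) = (q : ZMod (q ^ s - 1)) ^ (s / r) - 1 := by
      rw [Nat.cast_sub (Nat.one_le_pow _ _ (by omega))]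
      push_cast
      rfl
    rw [h4, sub_mul, one_mul, sub_eq_zero] at h3
    exact h3
  · intro a ha b hb hab
    have ha' : a < q ^ (s / r) - 1 := by simpa using ha
    have hb' : b < q ^ (s / r) - 1 := by simpa using hb
    have h3 := (ZMod.natCast_eq_natCast_iff _ _ _).1 hab
    have h4 := Nat.ModEq.eq_of_lt_of_lt h3 (by rw [← hed]; exact Nat.mul_lt_mul_of_pos_left ha' he0)
      (by rw [← hed]; exact Nat.mul_lt_mul_of_pos_left hb' he0)
    exact Nat.eq_of_mul_eq_mul_left he0 h4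
  · intro j hj
    have hj1 := (Finset.mem_filter.1 hj).2
    rw [fixed_iff hq hs hr hr0 hu] at hj1
    have h4 : ((q ^ (s / r) - 1 : ℕ) : ZMod (q ^ s - 1)) = (q : ZMod (q ^ s - 1)) ^ (s / r) - 1 := by
      rw [Nat.cast_sub (Nat.one_le_pow _ _ (by omega))]
      push_cast
      rfl
    have h5 : (((q ^ (s / r) - 1) * j.val : ℕ) : ZMod (q ^ s - 1)) = 0 := by
      rw [Nat.cast_mul, h4, ZMod.natCast_zmod_val, sub_mul, one_mul, hj1, sub_self]
    have h6 := (ZMod.natCast_eq_zero_iff _ _).1 h5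
    have h8 : (q ^ (s / r) - 1) * e ∣ (q ^ (s / r) - 1) * j.val := by
      rw [mul_comm _ e, hed]
      exact h6
    obtain ⟨w, hw⟩ := Nat.dvd_of_mul_dvd_mul_left h2 h8
    refine ⟨w, ?_, ?_⟩
    · have h7 : e * w < e * (q ^ (s / r) - 1) := by
        rw [hed, ← hw]
        exact ZMod.val_lt j
      simpa using Nat.lt_of_mul_lt_mul_left h7
    · show ((e * w : ℕ) : ZMod (q ^ s - 1)) = j
      rw [← hw, ZMod.natCast_zmod_val]
  · intro j _
    rfl

end

end Cfsg.Agent.H140.KGV
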