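import Mathlib

/-!
# Homomorphisms from an extension `E = A ⟨t⟩`
-/

set_option autoImplicit false

namespace Cfsg.Agent.H140.KGV

variable {E Γ : Type*} [Group E] [Group Γ]

/-- A homomorphism on `A` and an element `γ` with the relations of `t` extend to `E = A ⟨t⟩`. -/
theorem exists_ext (A : Subgroup E) [A.Normal] (t : E) (ht : A ⊔ Subgroup.zpowers t = ⊤)
    (φ : A →* Γ) (γ : Γ) (h1 : ∀ a b : A, (b : E) = t * a * t⁻¹ → φ b = γ * φ a * γ⁻¹)
    (h2 : ∀ (n : ℤ) (h : t ^ n ∈ A), φ ⟨t ^ n, h⟩ = γ ^ n) :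
    ∃ ρ : E →* Γ, (∀ a : A, ρ a = φ a) ∧ ρ t = γ := by
  classical
  -- the action of `ℤ` on `A`
  let c : E →* MulAut A := MulAut.conjNormal
  let τ : Multiplicative ℤ →* MulAut A := c.comp (zpowersHom E t)
  let π : A ⋊[τ] Multiplicative ℤ →* E := SemidirectProduct.lift A.subtype (zpowersHom E t) (by
    intro g
    apply MonoidHom.ext
    intro a
    simp only [MonoidHom.comp_apply, MulEquiv.coe_toMonoidHom, Subgroup.coe_subtype,
      MulAut.conj_apply]
    exact MulAut.conjNormal_apply _ _)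
  have hπ : Function.Surjective π := by
    rw [← MonoidHom.range_eq_top, eq_top_iff, ← ht, sup_le_iff]
    constructor
    · intro a ha
      exact ⟨SemidirectProduct.inl ⟨a, ha⟩, by simp [π]⟩
    · rw [Subgroup.zpowers_le]
      exact ⟨SemidirectProduct.inr (Multiplicative.ofAdd 1), by simp [π]⟩
  have key : ∀ n : ℤ, ∀ a b : A, (b : E) = t ^ n * a * (t ^ n)⁻¹ → φ b = γ ^ n * φ a * (γ ^ n)⁻¹ := by
    intro n
    induction n with
    | zero =>
      intro a b hb
      have : b = a := Subtype.ext (by simpa using hb)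
      rw [this]; simp
    | succ n ih =>
      intro a b hb
      have hm : t ^ (n : ℤ) * a * (t ^ (n : ℤ))⁻¹ ∈ A := ‹A.Normal›.conj_mem _ a.2 _
      have e1 := ih a ⟨_, hm⟩ rfl
      have e2 := h1 ⟨_, hm⟩ b (by
        rw [hb, add_comm, zpow_add, zpow_one]
        simp only [_root_.mul_inv_rev, mul_assoc])
      rw [e2, e1, add_comm, zpow_add, zpow_one]
      simp only [_root_.mul_inv_rev, mul_assoc]
    | pred n ih =>
      intro a b hb
      have hm : t * b * t⁻¹ ∈ A := ‹A.Normal›.conj_mem _ b.2 _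
      have e1 := ih a ⟨_, hm⟩ (by
        show t * b * t⁻¹ = _
        rw [hb, sub_eq_add_neg, add_comm, zpow_add, zpow_neg_one]
        group)
      have e2 := h1 b ⟨_, hm⟩ rfl
      rw [e1] at e2
      rw [sub_eq_add_neg, add_comm, zpow_add, zpow_neg_one]
      have e3 : φ b = γ⁻¹ * (γ * φ b * γ⁻¹) * γ := by group
      rw [e3, ← e2]
      group
  let σ : A ⋊[τ] Multiplicative ℤ →* Γ := SemidirectProduct.lift φ (zpowersHom Γ γ) (by
    intro g
    apply MonoidHom.ext
    intro a
    simp only [MonoidHom.comp_apply, MulEquiv.coe_toMonoidHom, MulAut.conj_apply]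
    exact key (Multiplicative.toAdd g) a _ (MulAut.conjNormal_apply _ _))
  have hker : π.ker ≤ σ.ker := by
    rintro ⟨a, n⟩ h
    rw [MonoidHom.mem_ker] at h ⊢
    have h3 : (a : E) * t ^ (Multiplicative.toAdd n) = 1 := by
      have : π ⟨a, n⟩ = (a : E) * t ^ (Multiplicative.toAdd n) := rfl
      rw [← this, h]
    have h4 : t ^ (Multiplicative.toAdd n) = ((a⁻¹ : A) : E) := by
      rw [Subgroup.coe_inv]; exact eq_inv_of_mul_eq_one_right h3
    have h5 := h2 (Multiplicative.toAdd n) (by rw [h4]; exact (a⁻¹).2)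
    have h6 : (⟨t ^ (Multiplicative.toAdd n), by rw [h4]; exact (a⁻¹).2⟩ : A) = a⁻¹ := Subtype.ext h4
    rw [h6] at h5
    show φ a * γ ^ (Multiplicative.toAdd n) = 1
    rw [← h5, map_inv, mul_inv_cancel]
  refine ⟨MonoidHom.liftOfSurjective π hπ ⟨σ, hker⟩, ?_, ?_⟩
  · intro a
    have e1 : (a : E) = π (SemidirectProduct.inl a) := by simp [π]
    rw [e1]
    have := MonoidHom.liftOfRightInverse_comp_apply π _ (Function.rightInverse_surjInv hπ) ⟨σ, hker⟩
      (SemidirectProduct.inl a)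
    refine this.trans ?_
    simp [σ]
  · have e1 : t = π (SemidirectProduct.inr (Multiplicative.ofAdd 1)) := by simp [π]
    conv_lhs => rw [e1]
    have := MonoidHom.liftOfRightInverse_comp_apply π _ (Function.rightInverse_surjInv hπ) ⟨σ, hker⟩
      (SemidirectProduct.inr (Multiplicative.ofAdd 1))
    refine this.trans ?_
    simp [σ]

end Cfsg.Agent.H140.KGV
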