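import Cfsg.Agent.H644.KGV.Goals
import Cfsg.Agent.H140.KGV.Ext

/-!
# Monomial representations on functions on subsets of `ZMod n`
-/

set_option autoImplicit false
set_option linter.unusedSectionVars false

namespace Cfsg.Agent.H140.KGV

open Cfsg Finset Polynomial Cfsg.Agent.H644.KGV

section Mono

variable {n : ℕ} [NeZero n] (q : ℕ) (hq : q.Coprime n) (P : ZMod n → Prop)
  (hP : ∀ j, P ((q : ZMod n) * j) ↔ P j)

/-- Multiplication by `q` on the subset `P`. -/
noncomputable def mulq : Equiv.Perm {j : ZMod n // P j} :=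
  Equiv.ofBijective (fun j => ⟨(q : ZMod n) * j, (hP j).2 j.2⟩) (by
    classical
    have : Finite {j : ZMod n // P j} := inferInstance
    apply Finite.injective_iff_bijective.1
    intro j j' h
    have h1 : (q : ZMod n) * j = (q : ZMod n) * j' := congrArg Subtype.val h
    have hu : IsUnit (q : ZMod n) := (ZMod.isUnit_iff_coprime q n).2 hq
    exact Subtype.ext (hu.mul_left_cancel h1))

theorem mulq_apply (j : {j : ZMod n // P j}) : ((mulq q hq P hP j : {j // P j}) : ZMod n) = q * j := rfl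

theorem mulq_pow_apply (m : ℕ) (j : {j : ZMod n // P j}) :
    (((mulq q hq P hP ^ m) j : {j // P j}) : ZMod n) = (q : ZMod n) ^ m * j := by
  induction m generalizing j with
  | zero => simp
  | succ m ih =>
    rw [pow_succ', Equiv.Perm.mul_apply, mulq_apply, ih, pow_succ']
    ring

/-- Diagonal operators. -/
noncomputable def dop : ℂˣ →* (({j : ZMod n // P j} → ℂ) ≃ₗ[ℂ] ({j : ZMod n // P j} → ℂ)) where
  toFun := fun v =>
    { toFun := fun f j => (v : ℂ) ^ (j : ZMod n).val * f j
      map_add' := fun f g => by ext j; simp [mul_add]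
      map_smul' := fun c f => by ext j; simp; ring
      invFun := fun f j => ((v⁻¹ : ℂˣ) : ℂ) ^ (j : ZMod n).val * f j
      left_inv := fun f => by
        ext j
        simp only
        rw [← mul_assoc, ← mul_pow, Units.inv_mul, one_pow, one_mul]
      right_inv := fun f => by
        ext j
        simp only
        rw [← mul_assoc, ← mul_pow, Units.mul_inv, one_pow, one_mul] }
  map_one' := by
    apply LinearEquiv.ext
    intro f
    ext j
    show ((1 : ℂˣ) : ℂ) ^ _ * f j = f j
    simp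
  map_mul' := fun v w => by
    apply LinearEquiv.ext
    intro f
    ext j
    show ((v * w : ℂˣ) : ℂ) ^ _ * f j = (v : ℂ) ^ _ * ((w : ℂ) ^ _ * f j)
    rw [Units.val_mul, mul_pow, mul_assoc]

theorem dop_apply (v : ℂˣ) (f : {j : ZMod n // P j} → ℂ) (j : {j : ZMod n // P j}) :
    dop P v f j = (v : ℂ) ^ (j : ZMod n).val * f j := rfl

theorem pow_val_mul {v : ℂˣ} (hv : v ^ n = 1) (m : ℕ) (j : ZMod n) :
    (v : ℂ) ^ ((m : ZMod n) * j).val = (v : ℂ) ^ (m * j.val) := by
  have h1 : ((m : ZMod n) * j).val = (m * j.val) % n := by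
    rw [ZMod.val_mul, ZMod.val_natCast, Nat.mod_mul_mod]
  have h2 : (v : ℂ) ^ n = 1 := by rw [← Units.val_pow_eq_pow_val, hv, Units.val_one]
  rw [h1]
  conv_rhs => rw [← Nat.mod_add_div (m * j.val) n, pow_add, pow_mul, h2, one_pow, mul_one]

/-- The operator of `t`. -/
noncomputable def top (β : ℂˣ) : (({j : ZMod n // P j} → ℂ) ≃ₗ[ℂ] ({j : ZMod n // P j} → ℂ)) :=
  dop P β * LinearEquiv.funCongrLeft ℂ ℂ (mulq q hq P hP)

theorem top_apply (β : ℂˣ) (f : {j : ZMod n // P j} → ℂ) (j : {j : ZMod n // P j}) :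
    top q hq P hP β f j = (β : ℂ) ^ (j : ZMod n).val * f (mulq q hq P hP j) := rfl

theorem top_pow_apply {β : ℂˣ} (hβ : β ^ n = 1) (m : ℕ) (f : {j : ZMod n // P j} → ℂ)
    (j : {j : ZMod n // P j}) :
    (top q hq P hP β ^ m) f j =
      (β : ℂ) ^ ((∑ i ∈ range m, q ^ i) * (j : ZMod n).val) * f ((mulq q hq P hP ^ m) j) := by
  induction m generalizing j with
  | zero => simp
  | succ m ih =>
    rw [pow_succ', LinearEquiv.mul_apply, top_apply, ih, mulq_apply, pow_mul,
      pow_right_comm, pow_val_mul hβ, ← pow_mul, ← mul_assoc, ← pow_add]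
    congr 2
    rw [sum_range_succ']
    simp only [pow_succ, ← sum_mul, pow_zero]
    ring

theorem top_conj {β w : ℂˣ} (hw : w ^ n = 1) :
    top q hq P hP β * dop P w * (top q hq P hP β)⁻¹ = dop P (w ^ q) := by
  rw [mul_inv_eq_iff_eq_mul]
  apply LinearEquiv.ext
  intro f
  ext j
  rw [LinearEquiv.mul_apply, LinearEquiv.mul_apply, top_apply, dop_apply, dop_apply, top_apply,
    mulq_apply, pow_val_mul hw, Units.val_pow_eq_pow_val, ← pow_mul]
  ring

end Mono

end Cfsg.Agent.H140.KGV
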