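import Cfsg.Agent.H140.KGV.Trace
import Cfsg.Agent.H174.KGV.SemiCst
import Cfsg.Agent.H719.KGV.Star

/-!
# The semilinear case
-/

set_option autoImplicit false
set_option linter.unusedSectionVars false

namespace Cfsg.Agent.H140.KGV

open Cfsg Finset Polynomial Cfsg.Agent.H644.KGV

universe u

/-- The product formula (STAR). -/
def Star : Prop := ∀ (p : ℕ) [Fact p.Prime] (T : ℕ → ℕ → ZMod p), GaussSys p T →
  ∀ (F : ℂ → ℂ) (f : ℕ) (a : ZMod p), 1 ≤ f → a ≠ 0 → OrbFun p T f a F →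
  ∀ (ℓ k : ℕ), ℓ.Prime → ℓ ∣ p ^ f - 1 → ∀ b : ℂ, b ^ (p ^ f - 1) = 1 →
    ∏ z ∈ nthRootsFinset (ℓ ^ k) b, F z =
      PG p T f (((ℓ ^ k : ℕ) : ZMod p) * a) b * ∏ z ∈ nthRootsFinset (ℓ ^ k) (1 : ℂ), F z

theorem orbFun_mul {p : ℕ} [NeZero p] {T : ℕ → ℕ → ZMod p} {f : ℕ} {a : ZMod p} {F : ℂ → ℂ}
    (hF : OrbFun p T f a F) {m : ℕ} (hm : 1 ≤ m) :
    OrbFun p T (f * m) a (fun z => ∏ i ∈ range m, F (z ^ ((p ^ f) ^ i))) := by
  intro e z he hz
  have h1 := hF (m * e) z (Nat.mul_pos hm he) (by rw [← mul_assoc]; exact hz)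
  rw [mul_assoc, ← h1]
  clear h1 hz he
  induction e with
  | zero => simp
  | succ e ih =>
    rw [Finset.prod_range_succ, ih, mul_add, mul_one, Finset.prod_range_add]
    congr 1
    refine Finset.prod_congr rfl fun i _ => ?_
    rw [← pow_mul]
    congr 2
    rw [← pow_mul, ← pow_add]
    congr 1
    ring

theorem nthRootsFinset_one' (b : ℂ) : nthRootsFinset 1 b = {b} := by
  ext z
  rw [mem_nthRootsFinset one_pos, pow_one, Finset.mem_singleton]

theorem star_one {p : ℕ} [Fact p.Prime] {T : ℕ → ℕ → ZMod p} (hT : GaussSys p T)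
    {F : ℂ → ℂ} {f : ℕ} {a : ZMod p} (hf : 1 ≤ f) (ha : a ≠ 0) (hF : OrbFun p T f a F) {b : ℂ}
    (hb : b ^ (p ^ f - 1) = 1) :
    ∏ z ∈ nthRootsFinset 1 b, F z =
      PG p T f (((1 : ℕ) : ZMod p) * a) b * ∏ z ∈ nthRootsFinset 1 (1 : ℂ), F z := by
  have h1 : ∀ c : ℂ, c ^ (p ^ f - 1) = 1 → F c = PG p T f a c := by
    intro c hc
    have h2 := hF 1 c le_rfl (by rw [mul_one]; exact hc)
    simpa using h2
  rw [nthRootsFinset_one', nthRootsFinset_one', Finset.prod_singleton, Finset.prod_singleton,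
    h1 b hb, h1 1 (one_pow _), hT.one f a hf ha, mul_one, Nat.cast_one, one_mul]

theorem semilinear_of_star (hS : Star) : Semilinear.{u} := by
  intro p _ T hT E _ _ _ A _ t ℓ k f lam hpE hℓ hidx hf hℓf hAt hlam F hF
  have hp := (Fact.out : p.Prime)
  have hq : (p ^ f).Coprime (Nat.card E) := Nat.Coprime.pow_left _ ((Nat.Prime.coprime_iff_not_dvd hp).2 hpE)
  have h1 := uint_theta p T hT E A t f lam hf hAt hlam
  have h2 := H174.KGV.uint_cst hAt p T f hq F hF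
  refine H688.KGV.UI.congr (H688.KGV.UI.mul h1 h2) fun a ha h => ?_
  obtain ⟨r, hr⟩ : ∃ r, orderOf (QuotientGroup.mk' A h) = r := ⟨_, rfl⟩
  have hh : h ^ r ∈ A := hr ▸ pow_mem' h
  rw [H174.KGV.kap_ind hAt hlam hq (F a) h r hr hh]
  have hb : ∀ hh' : h ^ orderOf (QuotientGroup.mk' A h) ∈ A,
      lam ⟨h ^ orderOf (QuotientGroup.mk' A h), hh'⟩ = lam ⟨h ^ r, hh⟩ := by
    subst hr
    intro _
    rfl
  rw [hb, hr]
  have hfix := H174.KGV.b_fixed hAt hlam h r hr hh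
  have hrs : r ∣ A.index := hr ▸ H174.KGV.order_dvd_index h
  have hs : 0 < A.index := Nat.pos_of_ne_zero Subgroup.index_ne_zero_of_finite
  have hr0 : 0 < r := Nat.pos_of_dvd_of_pos hrs hs
  have hm : 1 ≤ A.index / r := Nat.div_pos (Nat.le_of_dvd hs hrs) hr0
  set b := lam ⟨h ^ r, hh⟩ with hbdef
  have hb1 : (b : ℂ) ^ (p ^ (f * (A.index / r)) - 1) = 1 := by
    have h3 : b ^ ((p ^ f) ^ (A.index / r) - 1) = 1 := by
      have h4 : 1 ≤ (p ^ f) ^ (A.index / r) := Nat.one_le_pow _ _ (pow_pos hp.pos _)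
      rw [← Nat.sub_add_cancel h4, pow_succ] at hfix
      exact mul_eq_right.1 hfix
    rw [pow_mul, ← Units.val_pow_eq_pow_val, h3, Units.val_one]
  have hOrb := orbFun_mul (hF a ha) hm
  have hfm : 1 ≤ f * (A.index / r) := Nat.mul_pos hf hm
  rw [Finset.prod_comm, Finset.prod_comm (s := range (A.index / r)) (t := nthRootsFinset r (1 : ℂ))]
  obtain ⟨j, hj, hrj⟩ := (Nat.dvd_prime_pow hℓ).1 (hidx ▸ hrs)
  by_cases hr1 : r = 1
  · subst hr1
    exact star_one hT hfm ha hOrb hb1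
  · have hs1 : A.index ≠ 1 := by
      intro h3
      rw [h3] at hrs
      exact hr1 (Nat.dvd_one.1 hrs)
    have hdvd : ℓ ∣ p ^ (f * (A.index / r)) - 1 := by
      rw [pow_mul]
      exact (hℓf hs1).trans (Nat.sub_one_dvd_pow_sub_one _ _)
    have h3 := hS p T hT _ _ a hfm ha hOrb ℓ j hℓ hdvd (b : ℂ) hb1
    rw [← hrj] at h3
    exact h3

/-- **The semilinear case (task SEMI).** -/
theorem semilinear : Semilinear.{u} := by
  refine semilinear_of_star fun p _ T hT F f a hf ha hF ℓ k hℓ hd b hb => ?_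
  rw [H719.KGV.star hT hℓ ha k hf hd hF hb, Nat.cast_pow]

end Cfsg.Agent.H140.KGV
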