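import Cfsg.Agent.H140.KGV.Mono
import Cfsg.Agent.S0148

/-!
# The graded representation of a semilinear group
-/

set_option autoImplicit false
set_option linter.unusedSectionVars false

namespace Cfsg.Agent.H140.KGV

open Cfsg Finset Polynomial Cfsg.Agent.H644.KGV

universe u

section Setup

variable {E : Type u} [Group E] {A : Subgroup E} [hA : A.Normal] {t : E} {lam : A →* ℂˣ} {q : ℕ}

theorem lam_conj_pow (hlam : ∀ (a b : A), (b : E) = t * a * t⁻¹ → lam b = lam a ^ q) (m : ℕ) :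
    ∀ (a b : A), (b : E) = t ^ m * a * (t ^ m)⁻¹ → lam b = lam a ^ (q ^ m) := by
  induction m with
  | zero =>
    intro a b hb
    have : b = a := Subtype.ext (by simpa using hb)
    rw [this]; simp
  | succ m ih =>
    intro a b hb
    have hm : t ^ m * a * (t ^ m)⁻¹ ∈ A := hA.conj_mem _ a.2 _
    rw [hlam ⟨_, hm⟩ b (by
      rw [hb, pow_succ']
      simp only [_root_.mul_inv_rev, mul_assoc]), ih a ⟨_, hm⟩ rfl, ← pow_mul, pow_succ]

theorem lam_pow_sub_one (hlam : ∀ (a b : A), (b : E) = t * a * t⁻¹ → lam b = lam a ^ q)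
    (hq : 0 < q) {s : ℕ} (hts : t ^ s ∈ A) (a : A) : lam a ^ (q ^ s - 1) = 1 := by
  have h1 := lam_conj_pow hlam s a (⟨t ^ s, hts⟩ * a * ⟨t ^ s, hts⟩⁻¹) rfl
  rw [map_mul, map_mul, map_inv, mul_comm (lam ⟨t ^ s, hts⟩), mul_assoc, mul_inv_cancel, mul_one] at h1
  have h2 : 1 ≤ q ^ s := Nat.one_le_pow _ _ hq
  have h3 : lam a ^ (q ^ s) = lam a ^ (q ^ s - 1) * lam a := by
    rw [← pow_succ, Nat.sub_add_cancel h2]
  rw [h3] at h1
  exact (mul_eq_right.1 h1.symm)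

/-- The element `β`. -/
theorem exists_beta (hlam : ∀ (a b : A), (b : E) = t * a * t⁻¹ → lam b = lam a ^ q)
    (hq : 2 ≤ q) {s : ℕ} (hs : 0 < s) (hts : t ^ s ∈ A) :
    ∃ β : ℂˣ, β ^ (∑ i ∈ range s, q ^ i) = lam ⟨t ^ s, hts⟩ ∧ β ^ (q ^ s - 1) = 1 := by
  have hpos : 0 < ∑ i ∈ range s, q ^ i := by
    apply Finset.sum_pos
    · intro i _
      positivity
    · exact ⟨0, by simpa using hs⟩
  obtain ⟨z, hz⟩ := IsAlgClosed.exists_pow_nat_eq ((lam ⟨t ^ s, hts⟩ : ℂˣ) : ℂ) hpos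
  have hz0 : z ≠ 0 := by
    rintro rfl
    rw [zero_pow hpos.ne'] at hz
    exact (lam ⟨t ^ s, hts⟩).ne_zero hz.symm
  have h1 : (Units.mk0 z hz0) ^ (∑ i ∈ range s, q ^ i) = lam ⟨t ^ s, hts⟩ := by
    apply Units.ext
    rw [Units.val_pow_eq_pow_val]
    exact hz
  refine ⟨Units.mk0 z hz0, h1, ?_⟩
  have h2 : q ^ s - 1 = (∑ i ∈ range s, q ^ i) * (q - 1) := by
    have := Nat.geomSum_eq hq s
    rw [this, Nat.div_mul_cancel (Nat.sub_one_dvd_pow_sub_one q s)]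
  rw [h2, pow_mul, h1]
  -- `t` centralizes `t ^ s`
  have h3 := hlam ⟨t ^ s, hts⟩ ⟨t ^ s, hts⟩ (by
    show t ^ s = t * t ^ s * t⁻¹
    rw [← pow_succ', pow_succ, mul_inv_cancel_right])
  have h4 : lam ⟨t ^ s, hts⟩ ^ q = lam ⟨t ^ s, hts⟩ ^ (q - 1) * lam ⟨t ^ s, hts⟩ := by
    rw [← pow_succ, Nat.sub_add_cancel (by omega)]
  rw [h4] at h3
  exact mul_eq_right.1 h3.symm

variable {n : ℕ} [NeZero n]

/-- **The representation.** -/
theorem exists_rep (hlam : ∀ (a b : A), (b : E) = t * a * t⁻¹ → lam b = lam a ^ q)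
    (hq : 2 ≤ q) {s : ℕ} (hs : 0 < s) (hts : t ^ s ∈ A) (hn : n = q ^ s - 1)
    (hqn : q.Coprime n) (hAt : A ⊔ Subgroup.zpowers t = ⊤)
    (hord : ∀ m : ℤ, t ^ m ∈ A → (s : ℤ) ∣ m)
    {β : ℂˣ} (hβ : β ^ (∑ i ∈ range s, q ^ i) = lam ⟨t ^ s, hts⟩) (hβn : β ^ n = 1)
    (P : ZMod n → Prop) (hP : ∀ j, P ((q : ZMod n) * j) ↔ P j) :
    ∃ ρ : E →* (({j : ZMod n // P j} → ℂ) ≃ₗ[ℂ] ({j : ZMod n // P j} → ℂ)),
      ∀ (x : A) (i : ℕ) (f : {j : ZMod n // P j} → ℂ) (j : {j : ZMod n // P j}),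
        ρ (x * t ^ i) f j = ((lam x * β ^ (∑ m ∈ range i, q ^ m) : ℂˣ) : ℂ) ^ (j : ZMod n).val *
          f ((mulq q hqn P hP ^ i) j) := by
  have hlamn : ∀ x : A, lam x ^ n = 1 := fun x => by
    rw [hn]; exact lam_pow_sub_one hlam (by omega) hts x
  have hqs : (q : ZMod n) ^ s = 1 := by
    have h1 : ((q ^ s : ℕ) : ZMod n) = ((n + 1 : ℕ) : ZMod n) := by
      rw [hn, Nat.sub_add_cancel (Nat.one_le_pow _ _ (by omega))]
    push_cast at h1
    rw [h1, ZMod.natCast_self, zero_add]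
  have hγs : top q hqn P hP β ^ s = dop P (lam ⟨t ^ s, hts⟩) := by
    apply LinearEquiv.ext
    intro f
    ext j
    rw [top_pow_apply _ _ _ _ hβn, dop_apply, pow_mul, ← hβ, Units.val_pow_eq_pow_val]
    congr 2
    apply Subtype.ext
    rw [mulq_pow_apply, hqs, one_mul]
  obtain ⟨ρ, h1, h2⟩ := exists_ext A t hAt ((dop P).comp lam) (top q hqn P hP β)
    (fun a b hb => by
      rw [MonoidHom.comp_apply, MonoidHom.comp_apply, hlam a b hb, top_conj _ _ _ _ (hlamn a)])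
    (fun m hm => by
      obtain ⟨k, rfl⟩ := hord m hm
      have e1 : (⟨t ^ ((s : ℤ) * k), hm⟩ : A) = (⟨t ^ s, hts⟩ : A) ^ k := by
        apply Subtype.ext
        rw [Subgroup.coe_zpow]
        exact (zpow_mul t s k).trans (by rw [zpow_natCast])
      rw [e1, map_zpow, zpow_mul, zpow_natCast, hγs]
      rfl)
  refine ⟨ρ, fun x i f j => ?_⟩
  rw [map_mul, map_pow, h1, h2, LinearEquiv.mul_apply, MonoidHom.comp_apply, dop_apply,
    top_pow_apply _ _ _ _ hβn, Units.val_mul, mul_pow, mul_assoc]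
  congr 1
  rw [Units.val_pow_eq_pow_val, pow_mul]

/-- The character. -/
theorem isCharacter_rep {J : Type} [Fintype J] [DecidableEq J] (ρ : E →* ((J → ℂ) ≃ₗ[ℂ] (J → ℂ))) :
    IsCharacter E (fun g => ∑ j, ρ g (Pi.single j 1) j) := by
  let M : E →* Matrix J J ℂ :=
    { toFun := fun g => LinearMap.toMatrix' ((ρ g : (J → ℂ) ≃ₗ[ℂ] (J → ℂ)) : (J → ℂ) →ₗ[ℂ] (J → ℂ))
      map_one' := by
        rw [map_one]
        exact LinearMap.toMatrix'_one
      map_mul' := fun g h => by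
        rw [map_mul]
        exact LinearMap.toMatrix'_comp _ _ }
  have h := S0148.isCharacter_of_matrix M
  have e : (fun g => (M g).trace) = fun g => ∑ j, ρ g (Pi.single j 1) j := by
    funext g
    rw [Matrix.trace]
    refine Finset.sum_congr rfl fun j _ => ?_
    rw [Matrix.diag_apply]
    show LinearMap.toMatrix' _ j j = _
    rw [LinearMap.toMatrix'_apply]
    rfl
  rwa [e] at h

end Setup

end Cfsg.Agent.H140.KGV
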