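import Cfsg.Agent.H140.KGV.Theta
import Cfsg.Agent.H140.KGV.Arith
import Cfsg.Agent.H174.KGV.SemiInd
import Cfsg.Agent.H688.KGV.UIntBasic

/-!
# The Gauss sum part of the semilinear case
-/

set_option autoImplicit false
set_option linter.unusedSectionVars false

namespace Cfsg.Agent.H140.KGV

open Cfsg Finset Polynomial Cfsg.Agent.H644.KGV

universe u

/-- Trace of a monomial operator. -/
theorem trace_mono {n : ℕ} [NeZero n] (q : ℕ) (hq : q.Coprime n) (P : ZMod n → Prop)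
    [DecidablePred P] (hP : ∀ j, P ((q : ZMod n) * j) ↔ P j) (i : ℕ) (c : ℂ)
    (φ : ({j : ZMod n // P j} → ℂ) → ({j : ZMod n // P j} → ℂ))
    (hφ : ∀ f j, φ f j = c ^ (j : ZMod n).val * f ((mulq q hq P hP ^ i) j)) :
    ∑ j : {j // P j}, φ (Pi.single j 1) j =
      ∑ j : ZMod n, if P j then (if (q : ZMod n) ^ i * j = j then c ^ j.val else 0) else 0 := by
  have h1 : ∀ j : {j : ZMod n // P j}, φ (Pi.single j 1) j =
      if (q : ZMod n) ^ i * (j : ZMod n) = j then c ^ (j : ZMod n).val else 0 := by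
    intro j
    rw [hφ, Pi.single_apply]
    by_cases h : (q : ZMod n) ^ i * (j : ZMod n) = j
    · have h2 : (mulq q hq P hP ^ i) j = j := Subtype.ext (by rw [mulq_pow_apply, h])
      rw [if_pos h2, if_pos h, mul_one]
    · have h2 : ¬ (mulq q hq P hP ^ i) j = j := fun h2 => h (by
        rw [← mulq_pow_apply q hq P hP, h2])
      rw [if_neg h2, if_neg h, mul_zero]
  rw [Finset.sum_congr rfl fun j _ => h1 j]
  have h2 := Finset.sum_filter P (fun j : ZMod n => if (q : ZMod n) ^ i * j = j then c ^ j.val else 0)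
    (s := Finset.univ)
  rw [← h2]
  exact (Finset.sum_subtype (p := P) (Finset.univ.filter P) (fun x => by simp)
    (fun j : ZMod n => if (q : ZMod n) ^ i * j = j then c ^ j.val else 0)).symm

section

variable {E : Type u} [Group E] {A : Subgroup E} [hA : A.Normal] {t : E} {lam : A →* ℂˣ} {q : ℕ}

theorem lam_pow_eq (hlam : ∀ (a b : A), (b : E) = t * a * t⁻¹ → lam b = lam a ^ q)
    (hq : 2 ≤ q) {s : ℕ} (hs : 0 < s) (hts : t ^ s ∈ A)
    (hqn : q.Coprime (q ^ s - 1)) (hAt : A ⊔ Subgroup.zpowers t = ⊤)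
    (hord : ∀ m : ℤ, t ^ m ∈ A → (s : ℤ) ∣ m)
    {β : ℂˣ} (hβ : β ^ (∑ i ∈ range s, q ^ i) = lam ⟨t ^ s, hts⟩) (hβn : β ^ (q ^ s - 1) = 1)
    {r v : ℕ} (hr : r ∣ s) (hr0 : 0 < r) (hu : v.Coprime r) (x : A)
    (hh : ((x : E) * t ^ (s / r * v)) ^ r ∈ A) :
    lam ⟨((x : E) * t ^ (s / r * v)) ^ r, hh⟩ =
      (lam x * β ^ (∑ m ∈ range (s / r * v), q ^ m)) ^ ((q ^ s - 1) / (q ^ (s / r) - 1)) := by
  have hn0 : NeZero (q ^ s - 1) := ⟨by
    have : q ^ 1 ≤ q ^ s := Nat.pow_le_pow_right (by omega) hs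
    rw [pow_one] at this
    omega⟩
  have hlamn : ∀ x : A, lam x ^ (q ^ s - 1) = 1 := fun x => lam_pow_sub_one hlam (by omega) hts x
  set i := s / r * v with hi
  set c := lam x * β ^ (∑ m ∈ range i, q ^ m) with hc
  have hcn : c ^ (q ^ s - 1) = 1 := by
    rw [hc, mul_pow, hlamn, one_mul, ← pow_mul, mul_comm, pow_mul, hβn, one_pow]
  have hqi : (q ^ i).Coprime (q ^ s - 1) := Nat.Coprime.pow_left _ hqn
  obtain ⟨ρ, hρ⟩ := exists_rep hlam hq hs hts rfl hqn hAt hord hβ hβn (fun _ => True)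
    (fun _ => Iff.rfl)
  have h1 : ρ (x * t ^ i) = top (q ^ i) hqi (fun _ => True) (fun _ => Iff.rfl) c := by
    apply LinearEquiv.ext
    intro f
    funext j
    rw [hρ, top_apply]
    congr 2
    apply Subtype.ext
    rw [mulq_pow_apply, mulq_apply, Nat.cast_pow]
  have h2 : (ρ ((x * t ^ i) ^ r)) (fun _ => 1) ⟨1, trivial⟩ =
      (c : ℂ) ^ ((∑ l ∈ range r, (q ^ i) ^ l) * (1 : ZMod (q ^ s - 1)).val) := by
    rw [map_pow, h1, top_pow_apply _ _ _ _ hcn, mul_one]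
  have h3 : (ρ ((x * t ^ i) ^ r)) (fun _ => 1) ⟨1, trivial⟩ =
      ((lam ⟨((x : E) * t ^ i) ^ r, hh⟩ : ℂˣ) : ℂ) ^ (1 : ZMod (q ^ s - 1)).val := by
    have h4 := hρ ⟨((x : E) * t ^ i) ^ r, hh⟩ 0 (fun _ => 1) ⟨1, trivial⟩
    rw [pow_zero, mul_one, range_zero, sum_empty, pow_zero, mul_one, mul_one] at h4
    exact h4
  have hval : (1 : ZMod (q ^ s - 1)).val = 1 % (q ^ s - 1) := ZMod.val_one_eq_one_mod _
  have hmod : ∀ y : ℂˣ, y ^ (q ^ s - 1) = 1 → y ^ (1 % (q ^ s - 1)) = y := by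
    intro y hy
    conv_rhs => rw [← pow_one y]
    exact pow_eq_pow_iff_modEq.2 ((Nat.mod_modEq 1 _).of_dvd (orderOf_dvd_of_pow_eq_one hy))
  rw [h2, hval] at h3
  have h5 : (c ^ (∑ l ∈ range r, (q ^ i) ^ l)) ^ (1 % (q ^ s - 1)) =
      lam ⟨((x : E) * t ^ i) ^ r, hh⟩ ^ (1 % (q ^ s - 1)) := by
    apply Units.ext
    rw [← pow_mul]
    push_cast
    exact h3
  rw [hmod _ (hlamn _), hmod _ (by rw [← pow_mul, mul_comm, pow_mul, hcn, one_pow])] at h5
  rw [← h5, ← pow_geom hq hs hr hr0 hu hcn]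
  congr 1
  exact Finset.sum_congr rfl fun l _ => by rw [← pow_mul]

theorem T_mod {p : ℕ} [Fact p.Prime] {T : ℕ → ℕ → ZMod p} (hT : GaussSys p T) {F : ℕ} (hF : 1 ≤ F)
    (j : ℕ) : T F (j % (p ^ F - 1)) = T F j := by
  have h : ∀ k i, T F (i + (p ^ F - 1) * k) = T F i := by
    intro k
    induction k with
    | zero => intro i; simp
    | succ k ih =>
      intro i
      rw [mul_add, mul_one, ← add_assoc, hT.per _ _ hF, ih]
  conv_rhs => rw [← Nat.mod_add_div j (p ^ F - 1)]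
  rw [h]

theorem T_frob {p : ℕ} [Fact p.Prime] {T : ℕ → ℕ → ZMod p} (hT : GaussSys p T) {F : ℕ} (hF : 1 ≤ F)
    (f j : ℕ) : T F (p ^ f * j) = T F j := by
  induction f generalizing j with
  | zero => simp
  | succ f ih => rw [pow_succ, mul_assoc, ih, hT.frob _ _ hF]

theorem pow_mem' [Finite E] (h : E) : h ^ orderOf (QuotientGroup.mk' A h) ∈ A :=
  (H174.KGV.pow_mem_iff h _).2 dvd_rfl

theorem uint_theta (p : ℕ) [Fact p.Prime] (T : ℕ → ℕ → ZMod p) (hT : GaussSys p T)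
    (E : Type u) [Group E] [Finite E] (A : Subgroup E) [A.Normal] (t : E) (f : ℕ) (lam : A →* ℂˣ)
    (hf : 1 ≤ f) (hAt : A ⊔ Subgroup.zpowers t = ⊤)
    (hlam : ∀ (a b : A), (b : E) = t * a * t⁻¹ → lam b = lam a ^ (p ^ f)) :
    UInt p E (fun a h => PG p T (f * (A.index / orderOf (QuotientGroup.mk' A h)))
      ((orderOf (QuotientGroup.mk' A h) : ZMod p) * a)
      (lam ⟨h ^ orderOf (QuotientGroup.mk' A h), pow_mem' h⟩ : ℂ)) := by
  classical
  set q := p ^ f with hqdef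
  have hp := (Fact.out : p.Prime).two_le
  have hq : 2 ≤ q := hp.trans (Nat.le_self_pow (by omega) p)
  set s := A.index with hsdef
  have hs : 0 < s := Nat.pos_of_ne_zero Subgroup.index_ne_zero_of_finite
  have hts : t ^ s ∈ A := A.pow_index_mem t
  have hqs : q ≤ q ^ s := Nat.le_self_pow hs.ne' q
  have hn0 : NeZero (q ^ s - 1) := ⟨by omega⟩
  have hqn : q.Coprime (q ^ s - 1) := by
    have h2 : (q ^ s).Coprime (q ^ s - 1) :=
      (Nat.coprime_self_sub_right (by omega)).2 (Nat.coprime_one_right _)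
    exact Nat.Coprime.coprime_dvd_left (dvd_pow_self q hs.ne') h2
  have hord : ∀ m : ℤ, t ^ m ∈ A → (s : ℤ) ∣ m := by
    intro m hm
    rw [← QuotientGroup.eq_one_iff] at hm
    have h1 : (QuotientGroup.mk' A t) ^ m = 1 := by rw [← map_zpow]; exact hm
    rw [← orderOf_dvd_iff_zpow_eq_one, H174.KGV.orderOf_mk_t hAt] at h1
    exact h1
  obtain ⟨β, hβ, hβn⟩ := exists_beta hlam hq hs hts
  have hfs : 1 ≤ f * s := Nat.mul_pos hf hs
  have hpfs : p ^ (f * s) = q ^ s := by rw [hqdef, ← pow_mul]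
  have hTq : ∀ j : ZMod (q ^ s - 1), T (f * s) ((q : ZMod (q ^ s - 1)) * j).val = T (f * s) j.val := by
    intro j
    rw [ZMod.val_mul, ZMod.val_natCast, Nat.mod_mul_mod]
    have h1 := T_mod hT hfs (q * j.val)
    rw [hpfs] at h1
    rw [h1]
    exact T_frob hT hfs f _
  choose ρ hρ using fun k : ZMod p => exists_rep hlam hq hs hts rfl hqn hAt hord hβ hβn
    (fun j => T (f * s) j.val = k) (fun j => by rw [hTq])
  refine ⟨fun k h => -∑ j, ρ k h (Pi.single j 1) j, fun k => ?_, fun a ha h => ?_⟩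
  · have h1 := isCharacter_rep (ρ k)
    exact OddOrderCharacters.VChar.gen_neg (OddOrderCharacters.VChar.gen_of_char h1)
  obtain ⟨m, -, x, hx⟩ := H174.KGV.exists_repr hAt h
  obtain ⟨r, hr⟩ : ∃ r, r = orderOf (QuotientGroup.mk' A h) := ⟨_, rfl⟩
  have hrs : r ∣ s := hr ▸ H174.KGV.order_dvd_index h
  have hr0 : 0 < r := Nat.pos_of_dvd_of_pos hrs hs
  -- the decomposition `h = x t ^ (s / r * v)`
  obtain ⟨v, hv, hmv⟩ : ∃ v : ℕ, v.Coprime r ∧ m = s / r * v := by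
    have h1 : r = s / Nat.gcd s m := by
      rw [hr, hsdef, ← H174.KGV.orderOf_mk_t hAt, ← orderOf_pow, ← map_pow]
      congr 1
      rw [hx, map_mul]
      have h2 : QuotientGroup.mk' A (x : E) = 1 := (QuotientGroup.eq_one_iff _).2 x.2
      rw [h2, one_mul]
    have hg : 0 < Nat.gcd s m := Nat.gcd_pos_of_pos_left _ hs
    have h3 : s / r = Nat.gcd s m := by
      rw [h1]
      exact Nat.div_div_self (Nat.gcd_dvd_left s m) hs.ne'
    refine ⟨m / Nat.gcd s m, ?_, ?_⟩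
    · rw [h1]
      exact (Nat.coprime_div_gcd_div_gcd hg).symm
    · rw [h3, Nat.mul_div_cancel' (Nat.gcd_dvd_right s m)]
  subst hmv
  dsimp only
  have hb : ∀ hh : h ^ orderOf (QuotientGroup.mk' A h) ∈ A,
      lam ⟨h ^ orderOf (QuotientGroup.mk' A h), hh⟩ =
      (lam x * β ^ (∑ m ∈ range (s / r * v), q ^ m)) ^ ((q ^ s - 1) / (q ^ (s / r) - 1)) := by
    rw [← hr, hx]
    intro hh
    exact lam_pow_eq hlam hq hs hts hqn hAt hord hβ hβn hrs hr0 hv x hh
  rw [hb]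
  rw [← hr]
  set c := lam x * β ^ (∑ m ∈ range (s / r * v), q ^ m) with hc
  have hcn : c ^ (q ^ s - 1) = 1 := by
    rw [hc, mul_pow, lam_pow_sub_one hlam (by omega) hts, one_mul, ← pow_mul, mul_comm, pow_mul,
      hβn, one_pow]
  have htr : ∀ k : ZMod p, ∑ j, ρ k h (Pi.single j 1) j =
      ∑ j : ZMod (q ^ s - 1), if T (f * s) j.val = k then
        (if (q : ZMod (q ^ s - 1)) ^ (s / r * v) * j = j then (c : ℂ) ^ j.val else 0) else 0 := by
    intro k
    exact trace_mono q hqn (fun j => T (f * s) j.val = k) (fun j => by rw [hTq]) (s / r * v)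
      (c : ℂ) (fun φ => ρ k h φ) (fun φ j => by
        rw [hx]
        exact hρ k x _ φ j)
  have h1 : ∑ k : ZMod p, (ZMod.stdAddChar (a * k) : ℂ) * -∑ j, ρ k h (Pi.single j 1) j =
      -∑ j : ZMod (q ^ s - 1), (if (q : ZMod (q ^ s - 1)) ^ (s / r * v) * j = j then
        (ZMod.stdAddChar (a * T (f * s) j.val) : ℂ) * (c : ℂ) ^ j.val else 0) := by
    simp_rw [htr, mul_neg, Finset.sum_neg_distrib, Finset.mul_sum]
    rw [Finset.sum_comm]
    congr 1
    refine Finset.sum_congr rfl fun j _ => ?_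
    rw [Finset.sum_eq_single (T (f * s) j.val)]
    · rw [if_pos rfl, mul_ite, mul_zero]
    · intro k _ hk
      rw [if_neg (Ne.symm hk), mul_zero]
    · intro h2
      exact absurd (Finset.mem_univ _) h2
  rw [h1, fixed_sum hq hs hrs hr0 hv, PG]
  have hpq : p ^ (f * (s / r)) = q ^ (s / r) := by rw [hqdef, ← pow_mul]
  rw [hpq]
  congr 1
  refine Finset.sum_congr rfl fun j _ => ?_
  have h2 := T_mod hT hfs ((q ^ s - 1) / (q ^ (s / r) - 1) * j)
  have h3 := hT.sub (f * (s / r)) r j (Nat.mul_pos hf (Nat.div_pos (Nat.le_of_dvd hs hrs) hr0)) hr0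
  have h4 : f * (s / r) * r = f * s := by rw [mul_assoc, Nat.div_mul_cancel hrs]
  rw [h4, hpfs, hpq] at h3
  rw [hpfs, h3] at h2
  rw [ZMod.val_natCast, h2]
  congr 1
  · congr 1
    ring
  · have h5 : (c : ℂ) ^ (q ^ s - 1) = 1 := by rw [← Units.val_pow_eq_pow_val, hcn, Units.val_one]
    rw [Units.val_pow_eq_pow_val, ← pow_mul]
    conv_lhs => rw [← Nat.mod_add_div ((q ^ s - 1) / (q ^ (s / r) - 1) * j) (q ^ s - 1), pow_add,
      pow_mul (c : ℂ) (q ^ s - 1), h5, one_pow, mul_one]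

end

end Cfsg.Agent.H140.KGV
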